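import Groth.Prelude.Def_P1
import Groth.Agent.H98P1.Base
import Groth.Agent.H98P1.Facts
import Mathlib.AlgebraicGeometry.Morphisms.UniversallyOpen
import Mathlib.AlgebraicGeometry.Morphisms.Finite
import Mathlib.AlgebraicGeometry.Morphisms.Flat

/-!
Connectedness of the projective line and finite locally free morphisms to it.
-/

set_option autoImplicit false
universe u

open CategoryTheory CategoryTheory.Limits AlgebraicGeometry

namespace Groth.Agent.P1Conn95

lemma sect_toBase (S : Scheme.{u}) (i : Fin (1 + 1)) :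
    P1.sect S i ≫ CohB1.ProjSpaceOver.toBase 1 S = 𝟙 S :=
  pullback.lift_snd _ _ _

lemma toBase_sect_apply (S : Scheme.{u}) (i : Fin (1 + 1)) (s : S) :
    CohB1.ProjSpaceOver.toBase 1 S (P1.sect S i s) = s := by
  rw [← Scheme.Hom.comp_apply, sect_toBase]; rfl

/-- The fibres of `P¹_S → S` are preconnected. -/
theorem isPreconnected_fibre (S : Scheme.{u}) (s : S) :
    _root_.IsPreconnected (CohB1.ProjSpaceOver.toBase 1 S ⁻¹' {s}) := by
  have := Groth.Agent.H98P1.isIntegral (A := S.residueField s)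
  have hr : Set.range (P1.toP1 (S.fromSpecResidueField s)) = CohB1.ProjSpaceOver.toBase 1 S ⁻¹' {s} := by
    rw [← S.range_fromSpecResidueField s]
    rw [← Scheme.Pullback.range_fst, ← (H98P1.isPullback_toP1 (S.fromSpecResidueField s)).isoPullback_hom_fst,
      Scheme.Hom.comp_base, TopCat.coe_comp, Set.range_comp, Set.range_eq_univ.mpr, Set.image_univ]
    exact (H98P1.isPullback_toP1 (S.fromSpecResidueField s)).isoPullback.hom.surjective
  rw [← hr]
  exact isPreconnected_range (P1.toP1 _).continuous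

/-- A clopen subset of `P¹_S` containing the zero section is everything. -/
theorem eq_univ_of_sect_mem (S : Scheme.{u}) {W : Set (CohB1.ProjSpaceOver 1 S)} (hW : IsClopen W)
    (h0 : ∀ s, P1.sect S 0 s ∈ W) : W = Set.univ := by
  refine Set.eq_univ_of_forall fun p => ?_
  exact (isPreconnected_fibre S (CohB1.ProjSpaceOver.toBase 1 S p)).subset_isClopen hW
    ⟨_, toBase_sect_apply S 0 _, h0 _⟩ rfl

instance preconnectedSpace (S : Scheme.{u}) [PreconnectedSpace S] :
    PreconnectedSpace (CohB1.ProjSpaceOver 1 S) := by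
  refine preconnectedSpace_iff_clopen.mpr fun W hW => ?_
  rcases preconnectedSpace_iff_clopen.mp ‹PreconnectedSpace S› (P1.sect S 0 ⁻¹' W)
    (hW.preimage (P1.sect S 0).continuous) with h | h
  · refine Or.inl (Set.compl_univ_iff.mp ?_)
    exact eq_univ_of_sect_mem S hW.compl fun s hs => (Set.eq_empty_iff_forall_notMem.mp h s) hs
  · exact Or.inr (eq_univ_of_sect_mem S hW fun s => (Set.eq_univ_iff_forall.mp h s))

variable {S X : Scheme.{u}} (g : X ⟶ CohB1.ProjSpaceOver 1 S) [IsFinite g] [Flat g]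
  [LocallyOfFinitePresentation g]

/-- The image of a clopen set under a finite locally free morphism is clopen. -/
theorem isClopen_image {W : Set X} (hW : IsClopen W) : IsClopen (g '' W) :=
  ⟨g.isClosedMap W hW.isClosed, g.isOpenMap W hW.isOpen⟩

/-- A clopen subset containing the preimage of the zero section is everything. -/
theorem eq_univ_of_preimage_zero (W : Set X) (hW : IsClopen W)
    (h0 : ∀ x : X, g x ∈ Set.range (P1.sect S 0) → x ∈ W) : W = Set.univ := by
  have h := eq_univ_of_sect_mem S (isClopen_image g hW.compl).compl fun s hs => by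
    obtain ⟨x, hx, hxs⟩ := hs
    exact hx (h0 x ⟨s, hxs.symm⟩)
  exact Set.eq_univ_of_forall fun x => not_not.mp fun hx =>
    (Set.eq_univ_iff_forall.mp h (g x)) ⟨x, hx, rfl⟩

/-- Every connected component surjects onto `P¹_S` for `S` connected. -/
theorem exists_mem_connectedComponent [PreconnectedSpace S] (x : X) (p : CohB1.ProjSpaceOver 1 S) :
    ∃ y ∈ connectedComponent x, g y = p := by
  have hfin : (g ⁻¹' {p}).Finite := g.finite_preimage_singleton p
  have hsurj : ∀ W : Set X, IsClopen W → W.Nonempty → ∃ y ∈ W, g y = p := by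
    intro W hW hne
    have h : g '' W = Set.univ := (isClopen_image g hW).eq_univ (hne.image g)
    exact Set.eq_univ_iff_forall.mp h p
  let n : Set X → ℕ := fun W => (W ∩ g ⁻¹' {p}).ncard
  obtain ⟨W, ⟨hW, hxW⟩, hmin⟩ := WellFounded.has_min (measure n).wf
    {W : Set X | IsClopen W ∧ x ∈ W} ⟨Set.univ, isClopen_univ, trivial⟩
  have hconn : _root_.IsPreconnected W := by
    rw [isPreconnected_iff_subset_of_disjoint_closed]
    intro u v hu hv hcov hdisj
    by_contra hcon
    rw [not_or] at hcon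
    have key : ∀ u v : Set X, IsClosed u → IsClosed v → W ⊆ u ∪ v → W ∩ (u ∩ v) = ∅ → x ∈ u →
        ¬ W ⊆ u → False := by
      intro u v hu hv hcov hdisj hxu hnsub
      have heq : W ∩ u = W \ v := by
        ext y
        refine ⟨fun ⟨h1, h2⟩ => ⟨h1, fun h3 => Set.eq_empty_iff_forall_notMem.mp hdisj y ⟨h1, h2, h3⟩⟩,
          fun ⟨h1, h2⟩ => ⟨h1, (hcov h1).resolve_right h2⟩⟩
      have hU : IsClopen (W ∩ u) := ⟨hW.isClosed.inter hu, heq ▸ hW.isOpen.sdiff hv⟩
      obtain ⟨y, hy, hyp⟩ := hsurj (W \ (W ∩ u)) (IsClopen.diff hW hU) (by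
        obtain ⟨z, hz, hzu⟩ := Set.not_subset.mp hnsub
        exact ⟨z, hz, fun h => hzu h.2⟩)
      refine hmin (W ∩ u) ⟨hU, hxW, hxu⟩ ?_
      refine Set.ncard_lt_ncard ⟨fun z hz => ⟨hz.1.1, hz.2⟩, fun h => hy.2 (h ⟨hy.1, hyp⟩).1⟩
        (hfin.subset Set.inter_subset_right)
    rcases hcov hxW with hxu | hxv
    · exact key u v hu hv hcov hdisj hxu hcon.1
    · exact key v u hv hu (Set.union_comm u v ▸ hcov) (Set.inter_comm u v ▸ hdisj) hxv hcon.2
  obtain ⟨y, hy, hyp⟩ := hsurj W hW ⟨x, hxW⟩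
  exact ⟨y, hconn.subset_connectedComponent hxW hy, hyp⟩

end Groth.Agent.P1Conn95
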